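-- helper15: the S2946 statement in a form that can be used together with the S2942-S2950 chain.
-- This file is a thin wrapper over helper58's fresh-name copy of the S2946 chain
-- (Cfsg.Agent.H58.Q46.Final); it declares no duplicate names.
import Cfsg.Prelude.Def_JComponents
import Cfsg.Agent.H58.Q46.Final

set_option autoImplicit false
open Cfsg

namespace Cfsg.Agent.H15.J46

/-- The S2946 statement (verbatim), via `Cfsg.Agent.H58.Q46.s2946`. -/
theorem s2946 {G : Type*} [Group G] [Finite G] (hL : Cfsg.IsCharacteristicTwoType G) (hN : ∀ N : Subgroup G, Cfsg.IsTwoLocal N → Group.IsSolvable ↥N)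
    (hZ : ∀ S : Sylow 2 G, Subgroup.centralizer (Cfsg.omegaCenterOf (S : Subgroup G) : Set G) ≤ Subgroup.normalizer ((S : Subgroup G) : Set G)) (T : Subgroup G) (hT : IsPGroup 2 ↥T) (hT1 : T ≠ ⊥) (K : Subgroup G) (hK : Cfsg.IsJComponent T K)
    (Z₀ : Subgroup G) (hZ₀ : Z₀ = Cfsg.omegaCenterOf (Cfsg.thompsonSubgroupOf 2 T)) :
    Nat.card ↥(Z₀ ⊓ Cfsg.wOf K) = 2 ∧
      (Z₀ ⊓ ((K ⊔ Cfsg.thompsonSubgroupOf 2 T) ⊓ Subgroup.centralizer ((K ⊔ Cfsg.thompsonSubgroupOf 2 T) : Set G))) ⊔ (Z₀ ⊓ Cfsg.wOf K) = Z₀ :=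
  Cfsg.Agent.H58.Q46.s2946 hL hN hZ T hT hT1 K hK Z₀ hZ₀

end Cfsg.Agent.H15.J46

#print axioms Cfsg.Agent.H15.J46.s2946
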